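import Groth.Prelude.Def_DerCA

/-!
Inverse systems in a triangulated category: pro-isomorphisms and essential constancy.
-/

set_option autoImplicit false

universe v u

open CategoryTheory CategoryTheory.Limits CategoryTheory.Pretriangulated Opposite

namespace Groth.Agent.ProTri

section

variable {D : Type u} [Category.{v} D]

theorem tr_comp (X : ARSys.PS D) {n m p : ℕ} (h : n ≤ m) (h' : m ≤ p) :
    ARSys.tr X h' ≫ ARSys.tr X h = ARSys.tr X (h.trans h') := by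
  rw [ARSys.tr, ARSys.tr, ← X.map_comp]
  rfl

theorem tr_refl (X : ARSys.PS D) (n : ℕ) : ARSys.tr X (le_refl n) = 𝟙 _ := X.map_id (op n)

theorem tr_nat {X Y : ARSys.PS D} (f : X ⟶ Y) {n m : ℕ} (h : n ≤ m) :
    ARSys.tr X h ≫ f.app (op n) = f.app (op m) ≫ ARSys.tr Y h :=
  f.naturality _

theorem const_tr {A : D} {X : ARSys.PS D} (c : (Functor.const ℕᵒᵖ).obj A ⟶ X) {n m : ℕ} (h : n ≤ m) :
    c.app (op m) ≫ ARSys.tr X h = c.app (op n) :=
  (c.naturality (homOfLE h).op).symm.trans (Category.id_comp _)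

end

variable {D : Type u} [Category.{v} D] [Preadditive D] [HasZeroObject D] [HasShift D ℤ]
  [∀ n : ℤ, (shiftFunctor D n).Additive] [Pretriangulated D]

/-- pro-isomorphism from killing the two maps to the cones -/
theorem isProIso_of_kills (X Y : ARSys.PS D) (f : X ⟶ Y) (C : ℕ → D)
    (g : ∀ n, Y.obj (op n) ⟶ C n) (h : ∀ n, C n ⟶ (X.obj (op n))⟦(1 : ℤ)⟧)
    (hT : ∀ n, Triangle.mk (f.app (op n)) (g n) (h n) ∈ distTriang D)
    (hk : ∀ n, ∃ (m : ℕ) (hnm : n ≤ m), ARSys.tr Y hnm ≫ g n = 0 ∧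
      h m ≫ (ARSys.tr X hnm)⟦(1 : ℤ)⟧' = 0) :
    DerCA.IsProIso f := by
  intro n
  obtain ⟨m, hnm, -, hm⟩ := hk n
  obtain ⟨p, hmp, hp, -⟩ := hk m
  obtain ⟨b₀, hb₀⟩ := Triangle.coyoneda_exact₂ _ (hT m) (ARSys.tr Y hmp) hp
  change Y.obj (op p) ⟶ X.obj (op m) at b₀
  change ARSys.tr Y hmp = b₀ ≫ f.app (op m) at hb₀
  refine ⟨p, hnm.trans hmp, b₀ ≫ ARSys.tr X hnm, ?_, ?_⟩
  · have h1 : (f.app (op p) ≫ b₀ - ARSys.tr X hmp) ≫ f.app (op m) = 0 := by
      rw [Preadditive.sub_comp, Category.assoc, ← hb₀, tr_nat f hmp, sub_self]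
    obtain ⟨e, he⟩ := Triangle.coyoneda_exact₁ _ (hT m)
      ((f.app (op p) ≫ b₀ - ARSys.tr X hmp)⟦(1 : ℤ)⟧')
      (((shiftFunctor D (1 : ℤ)).map_comp _ (f.app (op m))).symm.trans
        ((congrArg _ h1).trans (Functor.map_zero _ _ _)))
    have h2 : (f.app (op p) ≫ b₀ - ARSys.tr X hmp) ≫ ARSys.tr X hnm = 0 := by
      apply (shiftFunctor D (1 : ℤ)).map_injective
      exact ((shiftFunctor D (1 : ℤ)).map_comp _ _).trans ((congrArg (· ≫ _) he).trans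
        (((Category.assoc _ _ _).trans ((congrArg (e ≫ ·) hm).trans comp_zero)).trans
          (Functor.map_zero _ _ _).symm))
    rwa [Preadditive.sub_comp, sub_eq_zero, Category.assoc, tr_comp] at h2
  · rw [Category.assoc, tr_nat f hnm, ← Category.assoc, ← hb₀, tr_comp]

/-- two out of three for essential constancy -/
theorem isEssConstant_middle (X Y Z : ARSys.PS D) (f : X ⟶ Y) (g : Y ⟶ Z)
    (h : Z ⟶ X ⋙ shiftFunctor D (1 : ℤ))
    (hT : ∀ n : ℕ, Triangle.mk (f.app (op n)) (g.app (op n)) (h.app (op n)) ∈ distTriang D)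
    (hX : ∃ (A : D) (cA : (Functor.const ℕᵒᵖ).obj A ⟶ X), DerCA.IsEssConstant X A cA)
    (hZ : ∃ (C : D) (cC : (Functor.const ℕᵒᵖ).obj C ⟶ Z), DerCA.IsEssConstant Z C cC) :
    ∃ (B : D) (cB : (Functor.const ℕᵒᵖ).obj B ⟶ Y), DerCA.IsEssConstant Y B cB := by
  classical
  obtain ⟨A, cA, iA, sA, hcA, hkA⟩ := hX
  obtain ⟨C, cC, iC, sC, hcC, hkC⟩ := hZ
  let i₀ := max iA iC
  obtain ⟨k₀, hk₀C, hk₀, hk₀'⟩ := hkC i₀
  have hiA : iA ≤ k₀ := (le_max_left _ _).trans hk₀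
  let a : ∀ q, k₀ ≤ q → (X.obj (op q) ⟶ A) := fun q hq => ARSys.tr X (hiA.trans hq) ≫ sA
  let c : ∀ q, k₀ ≤ q → (Z.obj (op q) ⟶ C) := fun q hq => ARSys.tr Z (hk₀C.trans hq) ≫ sC
  have ha : ∀ q hq, cA.app (op q) ≫ a q hq = 𝟙 A := fun q hq => by
    simp only [a]; rw [← Category.assoc, const_tr, hcA]
  have hc : ∀ q hq, cC.app (op q) ≫ c q hq = 𝟙 C := fun q hq => by
    simp only [c]; rw [← Category.assoc, const_tr, hcC]
  have hh : ∀ {n m : ℕ} (hnm : n ≤ m),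
      ARSys.tr Z hnm ≫ h.app (op n) = h.app (op m) ≫ (ARSys.tr X hnm)⟦(1 : ℤ)⟧' :=
    fun hnm => h.naturality _
  let δ : C ⟶ A⟦(1 : ℤ)⟧ :=
    cC.app (op k₀) ≫ h.app (op k₀) ≫ (a k₀ le_rfl)⟦(1 : ℤ)⟧'
  have hδ : ∀ q hq, cC.app (op q) ≫ h.app (op q) ≫ (a q hq)⟦(1 : ℤ)⟧' = δ := fun q hq => by
    have e : a q hq = ARSys.tr X hq ≫ a k₀ le_rfl := by simp only [a]; rw [← Category.assoc, tr_comp]
    rw [e, Functor.map_comp]
    rw [← Category.assoc (h.app (op q))]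
    erw [← hh hq]
    rw [Category.assoc, ← Category.assoc (cC.app (op q)), const_tr]
  have hsq : ∀ q hq, h.app (op q) ≫ (a q hq)⟦(1 : ℤ)⟧' = c q hq ≫ δ := fun q hq => by
    have e2 : ARSys.tr Z (hk₀.trans hq) = c q hq ≫ cC.app (op i₀) := by
      simp only [c]
      rw [← tr_comp Z hk₀ hq, hk₀', ← Category.assoc, tr_comp, Category.assoc]
    let a₀ : X.obj (op i₀) ⟶ A := ARSys.tr X (le_max_left iA iC) ≫ sA
    have e4 : ∀ p (hp : k₀ ≤ p), a p hp = ARSys.tr X (hk₀.trans hp) ≫ a₀ := fun p hp => by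
      simp only [a, a₀]; rw [← Category.assoc, tr_comp]
    have e3 : δ = cC.app (op i₀) ≫ h.app (op i₀) ≫ a₀⟦(1 : ℤ)⟧' := by
      simp only [δ]
      rw [e4 k₀ le_rfl, Functor.map_comp, ← Category.assoc (h.app (op k₀))]
      erw [← hh hk₀]
      rw [Category.assoc, ← Category.assoc (cC.app (op k₀)), const_tr]
    rw [e4 q hq, Functor.map_comp, e3, ← Category.assoc, ← Category.assoc (c q hq), ← e2]
    erw [← hh (hk₀.trans hq)]
    rw [Category.assoc]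
  obtain ⟨B, fB, gB, hB⟩ := distinguished_cocone_triangle₂ δ
  have hr : ∀ q hq, ∃ r : Y.obj (op q) ⟶ B,
      f.app (op q) ≫ r = a q hq ≫ fB ∧ g.app (op q) ≫ c q hq = r ≫ gB := fun q hq =>
    complete_distinguished_triangle_morphism₂ _ _ (hT q) hB (a q hq) (c q hq) (hsq q hq)
  obtain ⟨r₀, hr₀, hr₀'⟩ := hr k₀ le_rfl
  let r : ∀ q, k₀ ≤ q → (Y.obj (op q) ⟶ B) := fun q hq => ARSys.tr Y hq ≫ r₀
  have hr₁ : ∀ q hq, f.app (op q) ≫ r q hq = a q hq ≫ fB := fun q hq => by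
    simp only [r, a]
    rw [← Category.assoc, ← tr_nat f hq, Category.assoc, hr₀]
    simp only [a, ← Category.assoc, tr_comp]
  have hr₂ : ∀ q hq, g.app (op q) ≫ c q hq = r q hq ≫ gB := fun q hq => by
    simp only [r, c]
    rw [Category.assoc, ← hr₀']
    simp only [c]
    rw [← Category.assoc (ARSys.tr Y hq), tr_nat g hq, Category.assoc,
      ← Category.assoc (ARSys.tr Z hq), tr_comp]
  have hu : ∀ n, ∃ u : B ⟶ Y.obj (op n),
      fB ≫ u = cA.app (op n) ≫ f.app (op n) ∧ gB ≫ cC.app (op n) = u ≫ g.app (op n) := fun n => by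
    obtain ⟨k, hk, hkn, hk'⟩ := hkA n
    let q := max k k₀
    have hq : k₀ ≤ q := le_max_right _ _
    have e : a q hq ≫ cA.app (op n) = ARSys.tr X (hkn.trans (le_max_left k k₀)) := by
      simp only [a]
      rw [Category.assoc, ← tr_comp X hkn (le_max_left k k₀), hk', ← Category.assoc (ARSys.tr X (le_max_left k k₀)),
        tr_comp]
    refine complete_distinguished_triangle_morphism₂ _ _ hB (hT n) (cA.app (op n)) (cC.app (op n)) ?_
    change δ ≫ (cA.app (op n))⟦(1 : ℤ)⟧' = cC.app (op n) ≫ h.app (op n)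
    rw [← hδ q hq, Category.assoc, Category.assoc, ← Functor.map_comp, e]
    erw [← hh (hkn.trans (le_max_left k k₀))]
    rw [← Category.assoc, const_tr]
  have hsec : ∀ q hq, ∃ t : B ⟶ Y.obj (op q), t ≫ r q hq = 𝟙 B := fun q hq => by
    obtain ⟨u, hu₁, hu₂⟩ := hu q
    have e₁ : fB ≫ u ≫ r q hq = fB := by
      rw [reassoc_of% hu₁, hr₁, ← Category.assoc, ha q hq, Category.id_comp]
    have e₂ : (u ≫ r q hq) ≫ gB = gB := by
      rw [Category.assoc, ← hr₂, ← Category.assoc, ← hu₂, Category.assoc, hc q hq, Category.comp_id]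
    let φ : Triangle.mk fB gB δ ⟶ Triangle.mk fB gB δ :=
      { hom₁ := 𝟙 _
        hom₂ := u ≫ r q hq
        hom₃ := 𝟙 _
        comm₁ := e₁.trans (Category.id_comp _).symm
        comm₂ := (Category.comp_id _).trans e₂.symm
        comm₃ := by simp }
    haveI : IsIso (u ≫ r q hq) := isIso₂_of_isIso₁₃ φ hB hB
      (inferInstanceAs (IsIso (𝟙 _))) (inferInstanceAs (IsIso (𝟙 _)))
    exact ⟨inv (u ≫ r q hq) ≫ u, by rw [Category.assoc, IsIso.inv_hom_id]⟩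
  have hx : ∀ n, ∃ (q : ℕ) (hq : k₀ ≤ q) (hnq : n ≤ q) (x : B ⟶ Y.obj (op n)),
      ARSys.tr Y hnq = r q hq ≫ x := by
    intro n
    obtain ⟨k₁, hk₁, hnk₁, hk₁'⟩ := hkA n
    let m₁ := max k₁ k₀
    have hm₁ : k₀ ≤ m₁ := le_max_right _ _
    have hnm₁ : n ≤ m₁ := hnk₁.trans (le_max_left _ _)
    have eA : ARSys.tr X hnm₁ = a m₁ hm₁ ≫ cA.app (op n) := by
      simp only [a]
      rw [← tr_comp X hnk₁ (le_max_left k₁ k₀), hk₁', ← Category.assoc, tr_comp, Category.assoc]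
    obtain ⟨k₂, hk₂, hmk₂, hk₂'⟩ := hkC m₁
    let q₁ := max k₂ k₀
    have hq₁ : k₀ ≤ q₁ := le_max_right _ _
    have hmq₁ : m₁ ≤ q₁ := hmk₂.trans (le_max_left _ _)
    have eC : ARSys.tr Z hmq₁ = c q₁ hq₁ ≫ cC.app (op m₁) := by
      simp only [c]
      rw [← tr_comp Z hmk₂ (le_max_left k₂ k₀), hk₂', ← Category.assoc, tr_comp, Category.assoc]
    obtain ⟨u, hu₁, hu₂⟩ := hu m₁
    obtain ⟨d', hd'⟩ := Triangle.coyoneda_exact₂ _ (hT m₁) (ARSys.tr Y hmq₁ - r q₁ hq₁ ≫ u) (by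
      change (ARSys.tr Y hmq₁ - r q₁ hq₁ ≫ u) ≫ g.app (op m₁) = 0
      rw [Preadditive.sub_comp, tr_nat g hmq₁, eC, ← Category.assoc (g.app (op q₁)), hr₂ q₁ hq₁,
        sub_eq_zero]
      simp only [r, Category.assoc, ← hu₂])
    change Y.obj (op q₁) ⟶ X.obj (op m₁) at d'
    change ARSys.tr Y hmq₁ - r q₁ hq₁ ≫ u = d' ≫ f.app (op m₁) at hd'
    let v : Y.obj (op q₁) ⟶ A := d' ≫ a m₁ hm₁
    obtain ⟨k₃, hk₃, hqk₃, hk₃'⟩ := hkA q₁
    let q₂ := max k₃ k₀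
    have hq₂ : k₀ ≤ q₂ := le_max_right _ _
    have hqq₂ : q₁ ≤ q₂ := hqk₃.trans (le_max_left _ _)
    have eA₂ : ARSys.tr X hqq₂ = a q₂ hq₂ ≫ cA.app (op q₁) := by
      simp only [a]
      rw [← tr_comp X hqk₃ (le_max_left k₃ k₀), hk₃', ← Category.assoc, tr_comp, Category.assoc]
    let w : A ⟶ A := cA.app (op q₁) ≫ f.app (op q₁) ≫ v
    obtain ⟨w', hw'⟩ : ∃ w' : B ⟶ A, w = fB ≫ w' := by
      obtain ⟨ξ, hξ⟩ := hu q₁
      exact ⟨ξ ≫ v, by simp only [w]; rw [← reassoc_of% hξ.1]⟩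
    obtain ⟨η, hη⟩ := Triangle.yoneda_exact₂ _ (hT q₂) (ARSys.tr Y hqq₂ ≫ v - r q₂ hq₂ ≫ w') (by
      change f.app (op q₂) ≫ (ARSys.tr Y hqq₂ ≫ v - r q₂ hq₂ ≫ w') = 0
      rw [Preadditive.comp_sub, reassoc_of% hr₁, ← hw', ← Category.assoc, ← tr_nat f hqq₂, eA₂]
      simp only [w, Category.assoc, sub_self])
    change Z.obj (op q₂) ⟶ A at η
    change ARSys.tr Y hqq₂ ≫ v - r q₂ hq₂ ≫ w' = g.app (op q₂) ≫ η at hη
    obtain ⟨k₄, hk₄, hqk₄, hk₄'⟩ := hkC q₂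
    let q₃ := max k₄ k₀
    have hq₃ : k₀ ≤ q₃ := le_max_right _ _
    have hqq₃ : q₂ ≤ q₃ := hqk₄.trans (le_max_left _ _)
    have eC₃ : ARSys.tr Z hqq₃ = c q₃ hq₃ ≫ cC.app (op q₂) := by
      simp only [c]
      rw [← tr_comp Z hqk₄ (le_max_left k₄ k₀), hk₄', ← Category.assoc, tr_comp, Category.assoc]
    have hrr : ∀ {p p' : ℕ} (hp : k₀ ≤ p) (hpp : p ≤ p'),
        ARSys.tr Y hpp ≫ r p hp = r p' (hp.trans hpp) := fun hp hpp => by
      simp only [r]; rw [← Category.assoc, tr_comp]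
    have hv : ARSys.tr Y (hqq₂.trans hqq₃) ≫ v = r q₃ hq₃ ≫ (w' + gB ≫ cC.app (op q₂) ≫ η) := by
      rw [← tr_comp Y hqq₂ hqq₃, Category.assoc, sub_eq_iff_eq_add.1 hη, Preadditive.comp_add,
        Preadditive.comp_add, ← Category.assoc (ARSys.tr Y hqq₃) (g.app _), tr_nat g hqq₃, eC₃,
        reassoc_of% hrr hq₂ hqq₃, add_comm]
      congr 1
      rw [Category.assoc, Category.assoc, reassoc_of% hr₂]
    refine ⟨q₃, hq₃, hnm₁.trans (hmq₁.trans (hqq₂.trans hqq₃)),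
      (w' + gB ≫ cC.app (op q₂) ≫ η) ≫ cA.app (op n) ≫ f.app (op n) + u ≫ ARSys.tr Y hnm₁, ?_⟩
    have e5 : ARSys.tr Y (hnm₁.trans hmq₁) =
        v ≫ cA.app (op n) ≫ f.app (op n) + r q₁ hq₁ ≫ u ≫ ARSys.tr Y hnm₁ := by
      rw [← tr_comp Y hnm₁ hmq₁, sub_eq_iff_eq_add.1 hd', Preadditive.add_comp, Category.assoc,
        ← tr_nat f hnm₁, eA]
      simp only [v, Category.assoc]
    rw [← tr_comp Y (hnm₁.trans hmq₁) (hqq₂.trans hqq₃), e5, Preadditive.comp_add,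
      Preadditive.comp_add, reassoc_of% hv, reassoc_of% hrr hq₁ (hqq₂.trans hqq₃)]
  choose Q hQ hnQ x hxQ using hx
  have huniq : ∀ n q (hq : k₀ ≤ q) (hnq : n ≤ q) (y : B ⟶ Y.obj (op n)),
      ARSys.tr Y hnq = r q hq ≫ y → y = x n := by
    intro n q hq hnq y hy
    let p := max q (Q n)
    have hp : k₀ ≤ p := hq.trans (le_max_left _ _)
    obtain ⟨t, ht⟩ := hsec p hp
    have e : r p hp ≫ y = r p hp ≫ x n := by
      have e₁ : r p hp = ARSys.tr Y (le_max_left q (Q n)) ≫ r q hq := by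
        simp only [r, p]; rw [← Category.assoc, tr_comp]
      have e₂ : r p hp = ARSys.tr Y (le_max_right q (Q n)) ≫ r (Q n) (hQ n) := by
        simp only [r, p]; rw [← Category.assoc, tr_comp]
      conv_lhs => rw [e₁, Category.assoc, ← hy, tr_comp]
      conv_rhs => rw [e₂, Category.assoc, ← hxQ, tr_comp]
    calc y = (t ≫ r p hp) ≫ y := by rw [ht, Category.id_comp]
      _ = (t ≫ r p hp) ≫ x n :=
        (Category.assoc _ _ _).trans ((congrArg (t ≫ ·) e).trans (Category.assoc _ _ _).symm)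
      _ = x n := by rw [ht, Category.id_comp]
  let cB : (Functor.const ℕᵒᵖ).obj B ⟶ Y :=
    { app := fun n => x n.unop
      naturality := fun m n φ => by
        have hle : n.unop ≤ m.unop := leOfHom φ.unop
        have e : Y.map φ = ARSys.tr Y hle := congrArg Y.map (Subsingleton.elim _ _)
        dsimp
        rw [Category.id_comp]
        refine (huniq n.unop (Q m.unop) (hQ _) (hle.trans (hnQ _)) _ ?_).symm
        rw [← tr_comp Y hle (hnQ _), hxQ, e, Category.assoc] }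
  refine ⟨B, cB, k₀, r₀, ?_, fun j => ⟨Q j, hQ j, hnQ j, ?_⟩⟩
  · obtain ⟨t, ht⟩ := hsec (Q k₀) (hQ k₀)
    have : r (Q k₀) (hQ k₀) ≫ x k₀ ≫ r₀ = r (Q k₀) (hQ k₀) := by
      rw [← Category.assoc, ← hxQ]
    calc x k₀ ≫ r₀ = (t ≫ r (Q k₀) (hQ k₀)) ≫ x k₀ ≫ r₀ := by rw [ht, Category.id_comp]
      _ = 𝟙 B := by rw [Category.assoc, this, ht]
  · simp only [r] at hxQ
    exact (hxQ j).trans (Category.assoc _ _ _)

/-- splitting of an essentially constant system -/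
theorem exists_decomposition (X : ARSys.PS D) (A : D) (c : (Functor.const ℕᵒᵖ).obj A ⟶ X)
    (hX : DerCA.IsEssConstant X A c) :
    ∃ (i : ℕ) (Z : ℕ → D) (e : ∀ j : ℕ, X.obj (op (i + j)) ≅ A ⊞ Z j)
      (z : ∀ j k : ℕ, j ≤ k → (Z k ⟶ Z j)),
      (∀ j : ℕ, c.app (op (i + j)) ≫ (e j).hom = biprod.inl) ∧
      (∀ (j k : ℕ) (hjk : j ≤ k), (e k).inv ≫ ARSys.tr X (Nat.add_le_add_left hjk i) =
        biprod.map (𝟙 A) (z j k hjk) ≫ (e j).inv) ∧
      (∀ j : ℕ, ∃ (k : ℕ) (hjk : j ≤ k), z j k hjk = 0) := by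
  obtain ⟨i, s, hs, hk⟩ := hX
  let σ : ∀ j, X.obj (op (i + j)) ⟶ A := fun j => ARSys.tr X (Nat.le_add_right i j) ≫ s
  have hσ : ∀ j, c.app (op (i + j)) ≫ σ j = 𝟙 A := fun j => by
    simp only [σ]; rw [← Category.assoc, const_tr, hs]
  have key : ∀ j, ∃ (Z : D) (e : X.obj (op (i + j)) ≅ A ⊞ Z),
      c.app (op (i + j)) ≫ e.hom = biprod.inl ∧ e.hom ≫ biprod.fst = σ j := by
    intro j
    obtain ⟨Z, g, h, hd⟩ := distinguished_cocone_triangle (c.app (op (i + j)))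
    haveI : Mono ((c.app (op (i + j)))⟦(1 : ℤ)⟧') :=
      mono_of_mono_fac (h := 𝟙 _) (((shiftFunctor D (1 : ℤ)).map_comp _ _).symm.trans
        ((congrArg (shiftFunctor D (1 : ℤ)).map (hσ j)).trans
          ((shiftFunctor D (1 : ℤ)).map_id A)) :
        (c.app (op (i + j)))⟦(1 : ℤ)⟧' ≫ (σ j)⟦(1 : ℤ)⟧' = 𝟙 _)
    have hzero : h = 0 := by
      rw [← cancel_mono ((c.app (op (i + j)))⟦(1 : ℤ)⟧'), zero_comp]
      exact comp_distTriang_mor_zero₃₁ _ hd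
    obtain ⟨e₁, he₁', he₂⟩ := exists_iso_binaryBiproduct_of_distTriang _ hd hzero
    let e₀ : X.obj (op (i + j)) ≅ A ⊞ Z := e₁
    have he₁ : c.app (op (i + j)) ≫ e₀.hom = biprod.inl := he₁'
    let a : A ⊞ Z ⟶ A := e₀.inv ≫ σ j
    have ha : biprod.inl ≫ a = 𝟙 A := by
      have hi : (biprod.inl : A ⟶ A ⊞ Z) ≫ e₀.inv = c.app (op (i + j)) :=
        (congrArg (· ≫ e₀.inv) he₁.symm).trans
          ((Category.assoc _ _ _).trans ((congrArg _ e₀.hom_inv_id).trans (Category.comp_id _)))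
      simp only [a]
      exact ((Category.assoc _ _ _).symm.trans (congrArg (· ≫ σ j) hi)).trans (hσ j)
    let S : A ⊞ Z ≅ A ⊞ Z :=
      { hom := biprod.lift a biprod.snd
        inv := biprod.desc biprod.inl (biprod.inr - biprod.inr ≫ a ≫ biprod.inl)
        hom_inv_id := by
          ext <;> simp [reassoc_of% ha, ha]
        inv_hom_id := by
          ext <;> simp [reassoc_of% ha, ha] }
    refine ⟨Z, e₀ ≪≫ S, ?_, by simp [S, a]⟩
    rw [Iso.trans_hom, reassoc_of% he₁]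
    ext <;> simp [S, ha]
  choose Z e he hfst using key
  let z : ∀ j k : ℕ, j ≤ k → (Z k ⟶ Z j) := fun j k hjk =>
    biprod.inr ≫ (e k).inv ≫ ARSys.tr X (Nat.add_le_add_left hjk i) ≫ (e j).hom ≫ biprod.snd
  refine ⟨i, Z, e, z, he, fun j k hjk => ?_, fun j => ?_⟩
  · rw [← cancel_mono (e j).hom, Category.assoc, Category.assoc, Iso.inv_hom_id, Category.comp_id]
    have hinl : biprod.inl ≫ (e k).inv = c.app (op (i + k)) :=
      (congrArg (· ≫ (e k).inv) (he k).symm).trans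
        ((Category.assoc _ _ _).trans ((congrArg _ (e k).hom_inv_id).trans (Category.comp_id _)))
    have hstr : ARSys.tr X (Nat.add_le_add_left hjk i) ≫ σ j = σ k := by
      simp only [σ]; rw [← Category.assoc, tr_comp]
    have hinr : biprod.inr ≫ (e k).inv ≫ σ k = 0 := by
      rw [← hfst k, Iso.inv_hom_id_assoc, biprod.inr_fst]
    apply biprod.hom_ext'
    · rw [reassoc_of% hinl, reassoc_of% const_tr c (Nat.add_le_add_left hjk i), he]
      simp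
    · apply biprod.hom_ext
      · simp only [Category.assoc, hfst, hstr, hinr, biprod.map_fst, Category.comp_id,
          biprod.inr_fst]
      · simp [z]
  · obtain ⟨k, hik, hjk, hk'⟩ := hk (i + j)
    obtain ⟨k', rfl⟩ : ∃ k', k = i + k' := ⟨k - i, by omega⟩
    refine ⟨k', by omega, ?_⟩
    simp only [z, hk', Category.assoc]
    rw [← Category.assoc (c.app _), he]
    simp

end Groth.Agent.ProTri
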