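import Groth.Agent.ProTri.Basic
import Groth.Agent.TruncFactor.Basic

/-!
Bounded inverse systems in the derived category detected on cohomology.
-/

set_option autoImplicit false

universe w v u

open CategoryTheory CategoryTheory.Limits CategoryTheory.Pretriangulated Opposite DerivedCategory

namespace Groth.Agent.ProTri

variable {A : Type u} [Category.{v} A] [Abelian A] [HasDerivedCategory.{w} A]

local notation "H" => DerivedCategory.homologyFunctor A
local notation "tA" => (DerivedCategory.TStructure.t : Triangulated.TStructure (DerivedCategory A))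

section fills

variable (X Y : ARSys.PS (DerivedCategory A)) (C : ℕ → DerivedCategory A)
  (g : ∀ n, Y.obj (op n) ⟶ C n) (h : ∀ n, C n ⟶ (X.obj (op n))⟦(1 : ℤ)⟧)

/-- a map of cones compatible with the transition maps -/
def Fill {n m : ℕ} (hnm : n ≤ m) (w : C m ⟶ C n) : Prop :=
  ARSys.tr Y hnm ≫ g n = g m ≫ w ∧ h m ≫ (ARSys.tr X hnm)⟦(1 : ℤ)⟧' = w ≫ h n

theorem Fill.comp {n m p : ℕ} {hnm : n ≤ m} {hmp : m ≤ p} {w : C m ⟶ C n} {w' : C p ⟶ C m}
    (h₁ : Fill X Y C g h hnm w) (h₂ : Fill X Y C g h hmp w') :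
    Fill X Y C g h (hnm.trans hmp) (w' ≫ w) := by
  constructor
  · rw [← tr_comp Y hnm hmp, Category.assoc, h₁.1, ← Category.assoc, h₂.1, Category.assoc]
  · rw [← tr_comp X hnm hmp, Functor.map_comp, ← Category.assoc, h₂.2, Category.assoc, h₁.2,
      Category.assoc]

theorem Fill.refl (n : ℕ) : Fill X Y C g h (le_refl n) (𝟙 (C n)) := by
  constructor
  · rw [tr_refl, Category.id_comp, Category.comp_id]
  · rw [tr_refl, CategoryTheory.Functor.map_id, Category.comp_id, Category.id_comp]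

end fills

theorem isProIso_of_homology (X Y : ARSys.PS (DerivedCategory A)) (f : X ⟶ Y) (a b : ℤ)
    (hX : ∀ (n : ℕ) (i : ℤ), i < a ∨ b < i → IsZero ((H i).obj (X.obj (op n))))
    (hY : ∀ (n : ℕ) (i : ℤ), i < a ∨ b < i → IsZero ((H i).obj (Y.obj (op n))))
    (hH : ∀ i : ℤ, DerCA.IsProIso (Functor.whiskerRight f (H i))) : DerCA.IsProIso f := by
  classical
  choose C g h hT using fun n => distinguished_cocone_triangle (f.app (op n))
  let σ : ∀ i : ℤ, shiftFunctor (DerivedCategory A) (1 : ℤ) ⋙ H i ≅ H (i + 1) :=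
    fun i => (H 0).shiftIso 1 i (i + 1) (add_comm _ _)
  have hex : ∀ (n : ℕ) (i : ℤ), (ShortComplex.mk ((H i).map (g n)) ((H i).map (h n))
      (by rw [← Functor.map_comp,
        show g n ≫ h n = 0 from comp_distTriang_mor_zero₂₃ _ (hT n), Functor.map_zero])).Exact :=
    fun n i => (H i).map_distinguished_exact _ (rot_of_distTriang _ (hT n))
  have hCz : ∀ (n : ℕ) (i : ℤ), i < a - 1 ∨ b < i → IsZero ((H i).obj (C n)) := by
    intro n i hi
    refine (hex n i).isZero_of_both_zeros ((hY n i (by omega)).eq_of_src _ _) ?_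
    exact ((hX n (i + 1) (by omega)).of_iso ((σ i).app _)).eq_of_tgt _ _
  have fill₁ : ∀ {n m : ℕ} (hnm : n ≤ m), ∃ w : C m ⟶ C n, Fill X Y C g h hnm w := by
    intro n m hnm
    obtain ⟨w, hw₁, hw₂⟩ := complete_distinguished_triangle_morphism _ _ (hT m) (hT n)
      (ARSys.tr X hnm) (ARSys.tr Y hnm) (tr_nat f hnm).symm
    exact ⟨w, hw₁.symm, hw₂⟩
  have kill : ∀ (i : ℤ) (n : ℕ), ∃ (p : ℕ) (hnp : n ≤ p) (w : C p ⟶ C n),
      Fill X Y C g h hnp w ∧ (H i).map w = 0 := by
    intro i n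
    obtain ⟨m, hnm, β, -, hβ⟩ := hH i n
    obtain ⟨p, hmp, γ, hγ, -⟩ := hH (i + 1) m
    obtain ⟨w₁, hw₁⟩ := fill₁ hnm
    obtain ⟨w₂, hw₂⟩ := fill₁ hmp
    refine ⟨p, hnm.trans hmp, w₂ ≫ w₁, hw₁.comp _ _ _ _ _ hw₂, ?_⟩
    have h1 : (H i).map w₂ ≫ (H i).map (h m) = 0 := by
      rw [← Functor.map_comp, ← hw₂.2, Functor.map_comp, ← cancel_mono ((σ i).hom.app _), zero_comp,
        Category.assoc]
      erw [(σ i).hom.naturality (ARSys.tr X hmp)]
      rw [show (H (i + 1)).map (ARSys.tr X hmp) = (H (i + 1)).map (f.app (op p)) ≫ γ from hγ.symm]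
      erw [← (σ i).hom.naturality_assoc (f.app (op p)) γ]
      rw [← Category.assoc]
      refine (congrArg (· ≫ _) ?_).trans zero_comp
      exact ((H i).map_comp _ _).symm.trans
        ((congrArg (H i).map (comp_distTriang_mor_zero₃₁ _ (hT p))).trans (Functor.map_zero _ _ _))
    obtain ⟨W, π, hπ, y, hy⟩ := (hex m i).exact_up_to_refinements _ h1
    change W ⟶ (H i).obj (Y.obj (op m)) at y
    change π ≫ (H i).map w₂ = y ≫ (H i).map (g m) at hy
    rw [← cancel_epi π, comp_zero, Functor.map_comp, reassoc_of% hy, ← Functor.map_comp, ← hw₁.1,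
      Functor.map_comp, show (H i).map (ARSys.tr Y hnm) = β ≫ (H i).map (f.app (op n)) from hβ.symm,
      Category.assoc, ← Functor.map_comp,
      show f.app (op n) ≫ g n = 0 from comp_distTriang_mor_zero₁₂ _ (hT n), Functor.map_zero,
      comp_zero, comp_zero]
  have ghost : ∀ n : ℕ, ∃ (p : ℕ) (hnp : n ≤ p) (w : C p ⟶ C n),
      Fill X Y C g h hnp w ∧ ∀ i, (H i).map w = 0 := by
    suffices ∀ (S : Finset ℤ) (n : ℕ), ∃ (p : ℕ) (hnp : n ≤ p) (w : C p ⟶ C n),
        Fill X Y C g h hnp w ∧ ∀ i ∈ S, (H i).map w = 0 by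
      intro n
      obtain ⟨p, hnp, w, hw, hS⟩ := this (Finset.Icc (a - 1) b) n
      refine ⟨p, hnp, w, hw, fun i => ?_⟩
      by_cases hi : i < a - 1 ∨ b < i
      · exact (hCz p i hi).eq_of_src _ _
      · exact hS i (Finset.mem_Icc.2 (by omega))
    intro S
    induction S using Finset.induction_on with
    | empty => exact fun n => ⟨n, le_rfl, 𝟙 _, Fill.refl X Y C g h n, fun i hi => absurd hi (by simp)⟩
    | insert i₀ S _ ih =>
      intro n
      obtain ⟨m, hnm, w₁, hw₁, hS⟩ := ih n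
      obtain ⟨p, hmp, w₂, hw₂, h0⟩ := kill i₀ m
      refine ⟨p, hnm.trans hmp, w₂ ≫ w₁, hw₁.comp _ _ _ _ _ hw₂, fun i hi => ?_⟩
      rw [Functor.map_comp]
      rcases Finset.mem_insert.1 hi with rfl | hi
      · rw [h0, zero_comp]
      · rw [hS i hi, comp_zero]
  have hGE : ∀ n, (C n).IsGE (a - 1) := fun n =>
    (DerivedCategory.isGE_iff _ _).2 fun i hi => hCz n i (Or.inl hi)
  have hLE : ∀ n, (C n).IsLE b := fun n =>
    (DerivedCategory.isLE_iff _ _).2 fun i hi => hCz n i (Or.inr hi)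
  have climb : ∀ (k : ℕ) (n : ℕ), ∃ (p : ℕ) (hnp : n ≤ p) (w : C p ⟶ C n),
      Fill X Y C g h hnp w ∧ ((tA).truncLTι (a - 1 + k)).app (C p) ≫ w = 0 := by
    intro k
    induction k with
    | zero =>
      intro n
      refine ⟨n, le_rfl, 𝟙 _, Fill.refl X Y C g h n, ?_⟩
      exact (tA).zero_of_isLE_of_isGE _ (a - 1 + (0 : ℕ) - 1) (a - 1) (by omega) inferInstance (hGE n)
    | succ k ih =>
      intro n
      obtain ⟨m, hnm, w, hw, hw0⟩ := ih n
      obtain ⟨p, hmp, w', hw', hw'0⟩ := ghost m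
      refine ⟨p, hnm.trans hmp, w' ≫ w, hw.comp _ _ _ _ _ hw', ?_⟩
      obtain ⟨w₁, hw₁⟩ := Triangle.yoneda_exact₂ _
        ((tA).triangleLTGE_distinguished (a - 1 + k) (C m)) w hw0
      change ((tA).truncGE (a - 1 + k)).obj (C m) ⟶ C n at w₁
      change w = ((tA).truncGEπ (a - 1 + k)).app (C m) ≫ w₁ at hw₁
      have hx : ((tA).truncLTι (a - 1 + ((k + 1 : ℕ) : ℤ))).app (C p) ≫ w' ≫
          ((tA).truncGEπ (a - 1 + k)).app (C m) = 0 := by
        refine TruncFactor.eq_zero_of_homology (a - 1 + k)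
          ((tA).isLE_of_le _ (a - 1 + ((k + 1 : ℕ) : ℤ) - 1) _ (by omega))
          (inferInstanceAs ((tA).IsGE _ _)) _ ?_
        rw [Functor.map_comp, Functor.map_comp, hw'0, zero_comp, comp_zero]
      rw [hw₁, ← Category.assoc w', ← Category.assoc, hx, zero_comp]
  refine isProIso_of_kills X Y f C g h hT fun n => ?_
  obtain ⟨p, hnp, w, hw, h0⟩ := climb (b + 2 - a).toNat n
  have : w = 0 := by
    haveI hle : (tA).IsLE (C p) (a - 1 + ((b + 2 - a).toNat : ℤ) - 1) :=
      haveI : (tA).IsLE (C p) b := hLE p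
      (tA).isLE_of_le (C p) b _ (by omega)
    haveI : IsIso (((tA).truncLTι (a - 1 + ((b + 2 - a).toNat : ℤ))).app (C p)) :=
      ((tA).isLE_iff_isIso_truncLTι_app _ _ (by omega) _).1 hle
    rw [← cancel_epi (((tA).truncLTι (a - 1 + ((b + 2 - a).toNat : ℤ))).app (C p)), h0, comp_zero]
  exact ⟨p, hnp, by rw [hw.1, this, comp_zero], by rw [hw.2, this, zero_comp]⟩

theorem pure_ext {K L : DerivedCategory A} (m : ℤ) (hK : K.IsGE m) (hK' : K.IsLE m) (hL : L.IsGE m)
    (hL' : L.IsLE m) (φ ψ : K ⟶ L) (h : (H m).map φ = (H m).map ψ) : φ = ψ :=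
  sub_eq_zero.1 (TruncFactor.eq_zero_of_pure m (φ - ψ) (by rw [Functor.map_sub, h, sub_self]))

theorem pure_surj {K L : DerivedCategory A} (m : ℤ) (hK : K.IsGE m) (hK' : K.IsLE m) (hL : L.IsGE m)
    (hL' : L.IsLE m) (α : (H m).obj K ⟶ (H m).obj L) : ∃ φ : K ⟶ L, (H m).map φ = α := by
  obtain ⟨M, ⟨eK⟩⟩ := exists_iso_singleFunctor_obj_of_isGE_of_isLE K m
  obtain ⟨N, ⟨eL⟩⟩ := exists_iso_singleFunctor_obj_of_isGE_of_isLE L m
  let e := singleFunctorCompHomologyFunctorIso A m
  refine ⟨eK.hom ≫ (singleFunctor A m).map (e.inv.app M ≫ (H m).map eK.inv ≫ α ≫ (H m).map eL.hom ≫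
    e.hom.app N) ≫ eL.inv, ?_⟩
  have := e.hom.naturality (e.inv.app M ≫ (H m).map eK.inv ≫ α ≫ (H m).map eL.hom ≫ e.hom.app N)
  simp only [Functor.comp_map, Functor.id_map] at this
  rw [← cancel_epi ((H m).map eK.inv), ← cancel_mono ((H m).map eL.hom), ← cancel_mono (e.hom.app N)]
  simp only [← Functor.map_comp, Iso.inv_hom_id_assoc, Category.assoc, Iso.inv_hom_id, Category.comp_id]
  exact this.trans (Iso.hom_inv_id_app_assoc e M _)

theorem isEssConstant_of_iso {C : Type*} [Category C] {X Y : ARSys.PS C} (e : X ≅ Y) {B : C}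
    {c : (Functor.const ℕᵒᵖ).obj B ⟶ X} (h : DerCA.IsEssConstant X B c) :
    DerCA.IsEssConstant Y B (c ≫ e.hom) := by
  obtain ⟨i, s, hs, hk⟩ := h
  refine ⟨i, e.inv.app _ ≫ s, by simp [hs], fun j => ?_⟩
  obtain ⟨k, hi, hj, hk⟩ := hk j
  refine ⟨k, hi, hj, ?_⟩
  rw [← cancel_epi (e.hom.app (op k)), ← tr_nat e.hom hj, hk]
  simp only [Category.assoc, NatTrans.comp_app]
  rw [← reassoc_of% (tr_nat e.hom hi)]
  simp

theorem isEssConstant_of_isZero {C : Type*} [Category C] [HasZeroMorphisms C] [HasZeroObject C]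
    (X : ARSys.PS C) (h : ∀ n, IsZero (X.obj (op n))) :
    ∃ (B : C) (c : (Functor.const ℕᵒᵖ).obj B ⟶ X), DerCA.IsEssConstant X B c := by
  open ZeroObject in
  refine ⟨0, { app := fun n => 0, naturality := fun _ _ _ => (h _).eq_of_tgt _ _ }, 0, 0,
    (isZero_zero C).eq_of_src _ _, fun j => ⟨j, Nat.zero_le _, le_rfl, (h j).eq_of_tgt _ _⟩⟩

theorem isEssConstant_pure (X : ARSys.PS (DerivedCategory A)) (m : ℤ)
    (hX : ∀ n, (X.obj (op n)).IsGE m ∧ (X.obj (op n)).IsLE m)
    (hH : ∃ (B : A) (c : (Functor.const ℕᵒᵖ).obj B ⟶ X ⋙ H m), DerCA.IsEssConstant (X ⋙ H m) B c) :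
    ∃ (L : DerivedCategory A) (c : (Functor.const ℕᵒᵖ).obj L ⟶ X), DerCA.IsEssConstant X L c := by
  obtain ⟨B, c, i, s, hs, hk⟩ := hH
  let S := (singleFunctor A m).obj B
  obtain ⟨e⟩ : Nonempty ((H m).obj S ≅ B) := ⟨(singleFunctorCompHomologyFunctorIso A m).app B⟩
  have hS : S.IsGE m := inferInstance
  have hS' : S.IsLE m := inferInstance
  choose u hu using fun n : ℕ => pure_surj m hS hS' (hX n).1 (hX n).2 (e.hom ≫ c.app (op n))
  obtain ⟨s', hs'⟩ := pure_surj m (hX i).1 (hX i).2 hS hS' (s ≫ e.inv)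
  let cB : (Functor.const ℕᵒᵖ).obj S ⟶ X :=
    { app := fun n => u n.unop
      naturality := fun p n φ => by
        refine pure_ext m hS hS' (hX n.unop).1 (hX n.unop).2 _ _ ?_
        dsimp
        have := c.naturality φ
        dsimp at this
        rw [Category.id_comp] at this
        refine ((congrArg (H m).map (Category.id_comp (u n.unop))).trans (hu _)).trans ?_
        refine ((congrArg (e.hom ≫ ·) this).trans ((Category.assoc _ _ _).symm.trans ?_))
        exact ((congrArg (· ≫ _) (hu p.unop)).symm.trans ((H m).map_comp _ _).symm) }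
  refine ⟨S, cB, i, s', pure_ext m hS hS' hS hS' _ _ ?_, fun j => ?_⟩
  · change (H m).map (u i ≫ s') = _
    rw [Functor.map_comp, hu, hs', Category.assoc, ← Category.assoc (c.app _), hs]
    simp
  · obtain ⟨k, hi, hj, hk⟩ := hk j
    refine ⟨k, hi, hj, pure_ext m (hX k).1 (hX k).2 (hX j).1 (hX j).2 _ _ ?_⟩
    change (H m).map (ARSys.tr X hj) = (H m).map (ARSys.tr X hi ≫ s' ≫ u j)
    rw [Functor.map_comp, Functor.map_comp, hs', hu, Category.assoc, Iso.inv_hom_id_assoc]
    exact hk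

theorem isEssConstant_of_homology (N : ℕ) : ∀ (X : ARSys.PS (DerivedCategory A)) (a : ℤ),
    (∀ (n : ℕ) (i : ℤ), i < a ∨ a + N < i → IsZero ((H i).obj (X.obj (op n)))) →
    (∀ i : ℤ, ∃ (B : A) (c : (Functor.const ℕᵒᵖ).obj B ⟶ X ⋙ H i), DerCA.IsEssConstant (X ⋙ H i) B c) →
    ∃ (L : DerivedCategory A) (c : (Functor.const ℕᵒᵖ).obj L ⟶ X), DerCA.IsEssConstant X L c := by
  induction N with
  | zero =>
    intro X a hX hH
    exact isEssConstant_pure X a (fun n => ⟨(DerivedCategory.isGE_iff _ _).2 fun i hi => hX n i (Or.inl hi),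
      (DerivedCategory.isLE_iff _ _).2 fun i hi => hX n i (Or.inr (by omega))⟩) (hH a)
  | succ N ih =>
    intro X a hX hH
    let b : ℤ := a + (N + 1 : ℕ)
    have hne : ∀ (n : ℕ), ((tA).triangleLTGE b).obj (X.obj (op n)) ∈ distTriang _ :=
      fun n => (tA).triangleLTGE_distinguished b _
    refine isEssConstant_middle (X ⋙ (tA).truncLT b) X (X ⋙ (tA).truncGE b)
      (Functor.whiskerLeft X ((tA).truncLTι b) ≫ X.rightUnitor.hom)
      (X.rightUnitor.inv ≫ Functor.whiskerLeft X ((tA).truncGEπ b))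
      (Functor.whiskerLeft X ((tA).truncGEδLT b)) ?_ ?_ ?_
    · intro n
      refine isomorphic_distinguished _ (hne n) _ (Triangle.isoMk _ _ (Iso.refl _) (Iso.refl _) (Iso.refl _) ?_ ?_ ?_)
      · exact (Category.comp_id _).trans ((Category.comp_id _).trans (Category.id_comp _).symm)
      · exact Category.comp_id _
      · exact ((congrArg (_ ≫ ·) (CategoryTheory.Functor.map_id _ _)).trans
          (Category.comp_id _)).trans (Category.id_comp _).symm
    · refine ih (X ⋙ (tA).truncLT b) a (fun n i hi => ?_) (fun i => ?_)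
      · by_cases hib : b ≤ i
        · haveI : (((tA).truncLT b).obj (X.obj (op n))).IsLE (b - 1) := inferInstance
          exact isZero_of_isLE (((tA).truncLT b).obj (X.obj (op n))) (b - 1) i (by omega)
        · haveI := TruncFactor.isIso_truncLTι (X.obj (op n)) b i (by omega)
          exact (hX n i (by omega)).of_iso (asIso ((H i).map (((tA).truncLTι b).app (X.obj (op n)))))
      · by_cases hib : b ≤ i
        · refine isEssConstant_of_isZero _ fun n => ?_
          haveI : (((tA).truncLT b).obj (X.obj (op n))).IsLE (b - 1) := inferInstance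
          exact isZero_of_isLE (((tA).truncLT b).obj (X.obj (op n))) (b - 1) i (by omega)
        · obtain ⟨B, c, hc⟩ := hH i
          haveI : ∀ n, IsIso ((Functor.whiskerLeft X (Functor.whiskerRight ((tA).truncLTι b) (H i))).app n) :=
            fun n => TruncFactor.isIso_truncLTι (X.obj n) b i (by omega)
          haveI := NatIso.isIso_of_isIso_app (Functor.whiskerLeft X (Functor.whiskerRight ((tA).truncLTι b) (H i)))
          exact ⟨B, _, isEssConstant_of_iso
            (asIso (Functor.whiskerLeft X (Functor.whiskerRight ((tA).truncLTι b) (H i)))).symm hc⟩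
    · refine isEssConstant_pure (X ⋙ (tA).truncGE b) b (fun n => ⟨(by
      show (tA).IsGE (((tA).truncGE b).obj (X.obj (op n))) b
      infer_instance), ?_⟩) ?_
      · haveI : (tA).IsLE (X.obj (op n)) b :=
          (DerivedCategory.isLE_iff _ _).2 fun i hi => hX n i (Or.inr (by omega))
        exact inferInstanceAs ((tA).IsLE (((tA).truncGE b).obj (X.obj (op n))) b)
      · obtain ⟨B, c, hc⟩ := hH b
        haveI : ∀ n, IsIso ((Functor.whiskerLeft X (Functor.whiskerRight ((tA).truncGEπ b) (H b))).app n) :=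
          fun n => TruncFactor.isIso_truncGEπ (X.obj n) b b le_rfl
        haveI := NatIso.isIso_of_isIso_app (Functor.whiskerLeft X (Functor.whiskerRight ((tA).truncGEπ b) (H b)))
        exact ⟨B, _, isEssConstant_of_iso
          (asIso (Functor.whiskerLeft X (Functor.whiskerRight ((tA).truncGEπ b) (H b)))) hc⟩

end Groth.Agent.ProTri
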